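import Groth.Agent.Lib.Frob16.Flat
import Mathlib.RingTheory.Etale.Kaehler
import Mathlib.RingTheory.Kaehler.Polynomial
import Mathlib.RingTheory.Derivation.Lie
import Mathlib.FieldTheory.Perfect
import Mathlib.Algebra.CharP.Lemmas
import Mathlib.Algebra.Field.ZMod
import Mathlib.Data.Nat.Prime.Factorial

/-!
# An étale chart in characteristic `p`: closed one-forms

For `C` étale over `A[x₁, …, x_r]` with `A` perfect of characteristic `p`, every element is uniquely
`Σ c_e ^ p x ^ e`, and closed one-forms are `Σ g_i ^ p x_i ^ (p-1) dx_i` up to exact ones.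
-/

universe u v

set_option linter.all false

noncomputable section

namespace GrothLib.CartierOne16

open TensorProduct GrothLib.Frob16 KaehlerDifferential

variable (p : ℕ) [hp : Fact p.Prime] {A : Type u} [CommRing A] [CharP A p]
variable (r : ℕ)


open MvPolynomial in
theorem bijective_monomials (B : Type v) [CommRing B] [Algebra A B] [CharP B p] [Algebra (MvPolynomial (Fin r) A) B]
    [IsScalarTower A (MvPolynomial (Fin r) A) B] [Algebra.Etale (MvPolynomial (Fin r) A) B] :
    letI := (FrobAlg.relFrob p A B).toAlgebra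
    Function.Bijective (Fintype.linearCombination (FrobAlg.BaseChange p A B)
      (fun e : Fin r → Fin p => algebraMap (MvPolynomial (Fin r) A) B (MvPolynomial.monomial (expVec p e) 1))) := by
  classical
  letI := (FrobAlg.relFrob p A B).toAlgebra
  let L : B ⊗[(MvPolynomial (Fin r) A)] ((Fin r → Fin p) → FrobAlg.BaseChange p A (MvPolynomial (Fin r) A)) ≃ₗ[(MvPolynomial (Fin r) A)] B ⊗[(MvPolynomial (Fin r) A)] FrobAlg.Twist p (MvPolynomial (Fin r) A) :=
    (LinearEquiv.ofBijective (phiPolyLin p (A := A) r)
      ((FrobAlg.toTwist p (MvPolynomial (Fin r) A)).bijective.comp (bijective_phiPoly p r))).lTensor B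
  let Q := TensorProduct.piRight (MvPolynomial (Fin r) A) (MvPolynomial (Fin r) A) B (fun _ : Fin r → Fin p => FrobAlg.BaseChange p A (MvPolynomial (Fin r) A))
  let cn := TensorProduct.AlgebraTensorModule.cancelBaseChange A (MvPolynomial (Fin r) A) (MvPolynomial (Fin r) A) B (FrobAlg.Twist p A)
  have hcn : ∀ (b : B) (y : FrobAlg.BaseChange p A (MvPolynomial (Fin r) A)), FrobAlg.relFrob p A B (cn (b ⊗ₜ y)) =
      b ^ p * algebraMap (MvPolynomial (Fin r) A) B (FrobAlg.relFrob p A (MvPolynomial (Fin r) A) y) := fun b y => by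
    induction y using TensorProduct.induction_on with
    | zero => simp
    | add x y hx hy => simp only [tmul_add, map_add, hx, hy, mul_add]
    | tmul f t =>
      rw [TensorProduct.AlgebraTensorModule.cancelBaseChange_tmul, relFrob_tmul, relFrob_tmul, map_mul,
        map_pow, ← IsScalarTower.algebraMap_apply A (MvPolynomial (Fin r) A) B, Algebra.smul_def, mul_pow]
      ring
  let v : (Fin r → Fin p) → B := fun e => algebraMap (MvPolynomial (Fin r) A) B (MvPolynomial.monomial (expVec p e) 1)
  have key : ∀ x, FrobAlg.relFrob p (MvPolynomial (Fin r) A) B (L x) = ∑ e, FrobAlg.relFrob p A B (cn (Q x e)) * v e := fun x => by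
    induction x using TensorProduct.induction_on with
    | zero => simp
    | add x y hx hy => simp only [map_add, Pi.add_apply, hx, hy, add_mul, Finset.sum_add_distrib]
    | tmul b c =>
      change FrobAlg.relFrob p (MvPolynomial (Fin r) A) B (b ⊗ₜ FrobAlg.toTwist p (MvPolynomial (Fin r) A) (phiPoly p r c)) = _
      rw [relFrob_tmul, RingEquiv.symm_apply_apply, phiPoly, map_sum, Finset.mul_sum]
      refine Finset.sum_congr rfl fun e _ => ?_
      rw [show Q (b ⊗ₜ c) e = b ⊗ₜ c e by simp [Q], hcn, map_mul, mul_assoc]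
  have hLv : ⇑(Fintype.linearCombination (FrobAlg.BaseChange p A B) v) =
      (fun x => FrobAlg.relFrob p (MvPolynomial (Fin r) A) B (L x)) ∘ Q.symm ∘ fun c e => cn.symm (c e) := funext fun c => by
    rw [Fintype.linearCombination_apply, Function.comp_apply, Function.comp_apply, key]
    refine Finset.sum_congr rfl fun e _ => ?_
    rw [LinearEquiv.apply_symm_apply, LinearEquiv.apply_symm_apply]
    rfl
  have hbij : Function.Bijective ⇑(Fintype.linearCombination (FrobAlg.BaseChange p A B) v) := by
    rw [hLv]
    exact (((bijective_relFrob p (MvPolynomial (Fin r) A) B).comp L.bijective).comp Q.symm.bijective).comp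
      (Function.Bijective.piMap fun _ => cn.symm.bijective)
  exact hbij



variable [PerfectRing A p]
variable {C : Type u} [CommRing C] [Algebra A C] [CharP C p] [Algebra (MvPolynomial (Fin r) A) C] [IsScalarTower A (MvPolynomial (Fin r) A) C]
  [Algebra.Etale (MvPolynomial (Fin r) A) C]

/-- The coordinates. -/
def crd (i : Fin r) : C := algebraMap (MvPolynomial (Fin r) A) C (MvPolynomial.X i)

/-- The monomials with small exponents. -/
def mon (e : Fin r → Fin p) : C := ∏ i, (crd (A := A) (C := C) r i) ^ (e i : ℕ)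

theorem mon_eq (e : Fin r → Fin p) :
    mon (A := A) (C := C) p r e = algebraMap (MvPolynomial (Fin r) A) C (MvPolynomial.monomial (expVec p e) 1) := by
  rw [mon, MvPolynomial.monomial_eq, map_one, one_mul, Finsupp.prod_fintype _ _ (fun _ => pow_zero _), map_prod]
  exact Finset.prod_congr rfl fun i _ => by rw [map_pow, expVec_apply]; rfl

theorem bijective_tmul_one : Function.Bijective (fun c : C => (c ⊗ₜ[A] (1 : (FrobAlg.Twist p A)) : FrobAlg.BaseChange p A C)) := by
  let t : A ≃ₐ[A] (FrobAlg.Twist p A) := AlgEquiv.ofBijective (Algebra.ofId A (FrobAlg.Twist p A))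
    ((FrobAlg.toTwist p A).bijective.comp (PerfectRing.bijective_frobenius (R := A) (p := p)))
  let e : C ≃ₐ[A] FrobAlg.BaseChange p A C :=
    (Algebra.TensorProduct.rid A A C).symm.trans (Algebra.TensorProduct.congr AlgEquiv.refl t)
  convert e.bijective using 1
  funext c
  simp [e]

/-- Every element is uniquely a combination of the monomials with `p`-th powers as coefficients. -/
theorem bijective_expansion :
    Function.Bijective (fun c : (Fin r → Fin p) → C => ∑ e, c e ^ p * mon (A := A) p r e) := by
  letI := (FrobAlg.relFrob p A C).toAlgebra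
  have h := (bijective_monomials p (A := A) r C).comp
    (Function.Bijective.piMap fun _ : Fin r → Fin p => bijective_tmul_one p (A := A) (C := C))
  convert h using 1
  funext c
  rw [Function.comp_apply, Fintype.linearCombination_apply]
  refine Finset.sum_congr rfl fun e _ => ?_
  rw [Pi.map_apply, Algebra.smul_def, mon_eq]
  show _ = FrobAlg.relFrob p A C (c e ⊗ₜ[A] 1) * _
  simp [relFrob_tmul]

theorem exists_expansion (b : C) : ∃ c : (Fin r → Fin p) → C, b = ∑ e, c e ^ p * mon (A := A) p r e :=
  let ⟨c, hc⟩ := (bijective_expansion p (A := A) r).2 b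
  ⟨c, hc.symm⟩

theorem expansion_eq_zero (c : (Fin r → Fin p) → C) (h : ∑ e, c e ^ p * mon (A := A) p r e = 0) (e) : c e = 0 := by
  have h2 := (bijective_expansion p (A := A) (C := C) r).1 (a₁ := c) (a₂ := 0)
    (h.trans (by simp [zero_pow hp.out.ne_zero]))
  exact congrFun h2 e

include A r in
/-- The pth power map is injective. -/
theorem pow_injective_zero {g : C} (hg : g ^ p = 0) : g = 0 := by
  haveI : NeZero p := ⟨hp.out.ne_zero⟩
  have h := expansion_eq_zero p (A := A) (C := C) r (Pi.single (fun _ => 0) g) (by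
    rw [Finset.sum_eq_single (fun _ => 0)]
    · simp [hg]
    · intro e _ he
      simp [Pi.single_eq_of_ne he, zero_pow hp.out.ne_zero]
    · simp) (fun _ => 0)
  simpa using h

/-- The basis of differentials given by the coordinates. -/
def dBasis : Module.Basis (Fin r) C (Ω[C⁄A]) :=
  ((KaehlerDifferential.mvPolynomialBasis A (Fin r)).baseChange C).map
    (KaehlerDifferential.tensorKaehlerEquivOfFormallyEtale A (MvPolynomial (Fin r) A) C)

theorem dBasis_apply (i : Fin r) : dBasis (A := A) (C := C) r i = D A C (crd (A := A) r i) := by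
  rw [dBasis, Module.Basis.map_apply, Module.Basis.baseChange_apply,
    KaehlerDifferential.tensorKaehlerEquivOfFormallyEtale_apply, mapBaseChange_tmul, one_smul]
  rw [show (KaehlerDifferential.mvPolynomialBasis A (Fin r)) i = D A (MvPolynomial (Fin r) A) (MvPolynomial.X i) by
    apply (KaehlerDifferential.mvPolynomialBasis A (Fin r)).repr.injective
    rw [Module.Basis.repr_self, KaehlerDifferential.mvPolynomialBasis_repr_D_X]]
  exact KaehlerDifferential.map_D A A (MvPolynomial (Fin r) A) C _

/-- Partial derivatives. -/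
def pd (i : Fin r) : Derivation A C C :=
  ((dBasis (A := A) (C := C) r).coord i).compDer (D A C)

theorem pd_crd (i j : Fin r) : pd (A := A) (C := C) r i (crd (A := A) r j) = if j = i then 1 else 0 := by
  show (dBasis (A := A) (C := C) r).coord i (D A C (crd (A := A) r j)) = _
  rw [← dBasis_apply, Module.Basis.coord_apply, Module.Basis.repr_self, Finsupp.single_apply]

theorem D_eq_sum (b : C) : D A C b = ∑ i, pd (A := A) r i b • dBasis (A := A) (C := C) r i :=
  ((dBasis (A := A) (C := C) r).sum_repr _).symm

theorem derivation_eq_zero (δ : Derivation A C C) (h : ∀ j, δ (crd (A := A) r j) = 0) : δ = 0 := by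
  ext b
  rw [← δ.liftKaehlerDifferential_comp_D b, D_eq_sum r b, map_sum]
  refine Finset.sum_eq_zero fun i _ => ?_
  rw [map_smul, dBasis_apply, δ.liftKaehlerDifferential_comp_D, h, smul_zero]

theorem pd_comm (i j : Fin r) (b : C) :
    pd (A := A) r i (pd (A := A) r j b) = pd (A := A) r j (pd (A := A) r i b) := by
  have h := derivation_eq_zero r ⁅pd (A := A) (C := C) r i, pd (A := A) (C := C) r j⁆ fun l => by
    rw [Derivation.commutator_apply, pd_crd, pd_crd]
    split_ifs <;> simp
  have h2 := DFunLike.congr_fun h b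
  rwa [Derivation.commutator_apply, Derivation.zero_apply, sub_eq_zero] at h2

omit [PerfectRing A p] [Algebra (MvPolynomial (Fin r) A) C] [IsScalarTower A (MvPolynomial (Fin r) A) C] [Algebra.Etale (MvPolynomial (Fin r) A) C] in
theorem der_pow_p {M : Type*} [AddCommGroup M] [Module C M] [Module A M] (δ : Derivation A C M) (b : C) :
    δ (b ^ p) = 0 := by
  rw [Derivation.leibniz_pow, ← Nat.cast_smul_eq_nsmul C, CharP.cast_eq_zero, zero_smul]

omit [PerfectRing A p] [Algebra (MvPolynomial (Fin r) A) C] [IsScalarTower A (MvPolynomial (Fin r) A) C] [Algebra.Etale (MvPolynomial (Fin r) A) C] in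
theorem der_pow_p_mul (δ : Derivation A C C) (c b : C) : δ (c ^ p * b) = c ^ p * δ b := by
  rw [Derivation.leibniz, der_pow_p p δ c, smul_zero, add_zero, smul_eq_mul]

theorem iterate_pd_pow (i : Fin r) (a : C) (ha : pd (A := A) r i a = 0) (m : ℕ) : ∀ n : ℕ,
    (pd (A := A) r i)^[n] (a * crd (A := A) r i ^ m) = a * (m.descFactorial n : C) * crd (A := A) r i ^ (m - n) := by
  intro n
  induction n with
  | zero => simp
  | succ n ih =>
    rw [Function.iterate_succ_apply', ih, Derivation.leibniz, Derivation.leibniz, Derivation.leibniz_pow, pd_crd,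
      if_pos rfl, ha, Derivation.map_natCast, Nat.descFactorial_succ, Nat.cast_mul,
      show m - (n + 1) = m - n - 1 by omega]
    simp only [smul_eq_mul, nsmul_eq_mul, mul_zero, add_zero]
    ring

theorem pd_mon_rest (i : Fin r) (e : Fin r → Fin p) :
    pd (A := A) (C := C) r i (∏ j ∈ Finset.univ.erase i, crd (A := A) r j ^ (e j : ℕ)) = 0 := by
  refine Finset.prod_induction _ (fun z => pd (A := A) (C := C) r i z = 0) (fun a b ha hb => ?_)
    (Derivation.map_one_eq_zero _) fun j hj => ?_
  · rw [Derivation.leibniz, ha, hb, smul_zero, smul_zero, add_zero]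
  · rw [Derivation.leibniz_pow, pd_crd, if_neg (Finset.ne_of_mem_erase hj), smul_zero, smul_zero]

theorem iterate_pd_p (i : Fin r) (b : C) : (pd (A := A) r i)^[p] b = 0 := by
  obtain ⟨c, rfl⟩ := exists_expansion p (A := A) r b
  have hlin : ∀ (s : Finset (Fin r → Fin p)) (F : (Fin r → Fin p) → C),
      (pd (A := A) r i)^[p] (∑ e ∈ s, F e) = ∑ e ∈ s, (pd (A := A) r i)^[p] (F e) := fun s F => by
    have h := map_sum (((pd (A := A) (C := C) r i).toLinearMap : Module.End A C) ^ p) F s
    simp only [Module.End.coe_pow] at h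
    exact h
  rw [hlin]
  refine Finset.sum_eq_zero fun e _ => ?_
  rw [mon, ← Finset.mul_prod_erase _ _ (Finset.mem_univ i), ← mul_assoc, mul_comm, ← mul_assoc,
    iterate_pd_pow r i _ (by rw [Derivation.leibniz, pd_mon_rest, der_pow_p p]; simp),
    Nat.descFactorial_eq_zero_iff_lt.2 (e i).2]
  simp

theorem eq_pow_of_pd_eq_zero (b : C) (hb : ∀ i, pd (A := A) r i b = 0) : ∃ a : C, b = a ^ p := by
  classical
  haveI : NeZero p := ⟨hp.out.ne_zero⟩
  obtain ⟨c, rfl⟩ := exists_expansion p (A := A) r b
  refine ⟨c 0, Finset.sum_eq_single (0 : Fin r → Fin p) (fun e _ he => ?_) (by simp) |>.trans (by simp [mon])⟩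
  obtain ⟨i, hi⟩ : ∃ i, e i ≠ 0 := Function.ne_iff.1 he
  let g : (Fin r → Fin p) → (Fin r → Fin p) := fun e' =>
    Function.update e' i ⟨(e' i : ℕ) - 1, lt_of_le_of_lt (Nat.sub_le _ _) (e' i).2⟩
  have hd : ∀ e', pd (A := A) r i (c e' ^ p * mon (A := A) p r e') =
      (c e' * ((e' i : ℕ) : C)) ^ p * mon (A := A) p r (g e') := by
    intro e'
    rw [der_pow_p_mul, mul_pow, ← frobenius_def p ((e' i : ℕ) : C), map_natCast, mon,
      ← Finset.mul_prod_erase _ _ (Finset.mem_univ i), Derivation.leibniz, pd_mon_rest, smul_zero, zero_add,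
      Derivation.leibniz_pow, pd_crd, if_pos rfl, mon, ← Finset.mul_prod_erase _ _ (Finset.mem_univ i)]
    rw [Finset.prod_congr rfl (g := fun j => crd (A := A) (C := C) r j ^ (g e' j : ℕ)) (fun j hj => by
      simp only [g, Function.update_of_ne (Finset.ne_of_mem_erase hj)])]
    simp only [g, Function.update_self, smul_eq_mul, nsmul_eq_mul, mul_one]
    ring
  have h0 := hb i
  rw [map_sum, Finset.sum_congr rfl fun e' _ => hd e', ← Finset.sum_fiberwise Finset.univ g] at h0
  have h1 := expansion_eq_zero p (A := A) r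
    (fun e'' => ∑ e' ∈ Finset.univ.filter (fun e' => g e' = e''), c e' * ((e' i : ℕ) : C)) (by
      rw [← h0]
      refine Finset.sum_congr rfl fun e'' _ => ?_
      rw [sum_pow_char p, Finset.sum_mul]
      exact Finset.sum_congr rfl fun e' he' => by rw [(Finset.mem_filter.1 he').2]) (g e)
  rw [Finset.sum_eq_single e (fun e' he' hne => ?_) (by simp)] at h1
  · have hu : IsUnit ((e i : ℕ) : C) := by
      rw [← map_natCast (ZMod.castHom (dvd_refl p) C)]
      refine (IsUnit.mk0 _ ?_).map _
      rw [Ne, ZMod.natCast_eq_zero_iff]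
      exact fun h => absurd (Nat.le_of_dvd (Nat.pos_of_ne_zero fun h0 => hi (Fin.ext h0)) h) (not_le.2 (e i).2)
    rw [hu.mul_left_eq_zero.1 h1, zero_pow hp.out.ne_zero, zero_mul]
  · -- another preimage has exponent zero at `i`
    have hg : g e' = g e := (Finset.mem_filter.1 he').2
    suffices (e' i : ℕ) = 0 by rw [this, Nat.cast_zero, mul_zero]
    by_contra h0'
    apply hne
    funext j
    rcases eq_or_ne j i with rfl | hj
    · have := congrArg (fun q => (q j : ℕ)) hg
      simp only [g, Function.update_self] at this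
      have : (e j : ℕ) ≠ 0 := fun h => hi (Fin.ext h)
      exact Fin.ext (by omega)
    · have := congrFun hg j
      simpa [g, Function.update_of_ne hj] using this

theorem iterate_comm (i j : Fin r) (n : ℕ) (b : C) :
    pd (A := A) r j ((pd (A := A) r i)^[n] b) = (pd (A := A) r i)^[n] (pd (A := A) r j b) :=
  Function.Commute.iterate_right (fun a => pd_comm r j i a) n b

theorem isUnit_cast {n : ℕ} (h0 : n ≠ 0) (h : n < p) : IsUnit (n : C) := by
  rw [← map_natCast (ZMod.castHom (dvd_refl p) C)]
  refine (IsUnit.mk0 _ ?_).map _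
  rw [Ne, ZMod.natCast_eq_zero_iff]
  exact fun hd => absurd (Nat.le_of_dvd (Nat.pos_of_ne_zero h0) hd) (not_le.2 h)

theorem chart_inj (g : Fin r → C) (h : C)
    (hgh : ∑ i, (g i ^ p * crd (A := A) r i ^ (p - 1)) • dBasis (A := A) (C := C) r i = D A C h) : g = 0 := by
  funext i
  rw [D_eq_sum r h] at hgh
  have hi := congrArg ((dBasis (A := A) (C := C) r).repr · i) hgh
  simp only [map_sum, map_smul, Module.Basis.repr_self, Finsupp.smul_single, smul_eq_mul, mul_one,
    Finsupp.coe_finsetSum, Finset.sum_apply, Finsupp.single_apply, Finset.sum_ite_eq', Finset.mem_univ, if_true] at hi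
  have h1 := iterate_pd_p p (A := A) r i h
  rw [show (pd (A := A) (C := C) r i)^[p] = (pd (A := A) (C := C) r i)^[p - 1 + 1] by
    rw [show p - 1 + 1 = p from Nat.succ_pred_eq_of_pos hp.out.pos], Function.iterate_succ_apply, ← hi, iterate_pd_pow r i _ (der_pow_p p _ _), Nat.sub_self, pow_zero, mul_one,
    Nat.descFactorial_self] at h1
  have hu : IsUnit (((p - 1).factorial : ℕ) : C) := by
    rw [← Finset.prod_Ico_id_eq_factorial, Nat.cast_prod]
    exact IsUnit.prod_iff.2 fun m hm => isUnit_cast p (by rw [Finset.mem_Ico] at hm; omega)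
      (by rw [Finset.mem_Ico] at hm; have := hp.out.pos; omega)
  exact pow_injective_zero p (A := A) r (hu.mul_left_eq_zero.1 h1)

theorem integrate (i : Fin r) (f : C) (hf : (pd (A := A) r i)^[p - 1] f = 0) :
    ∃ h : C, pd (A := A) r i h = f ∧ ∀ j, j ≠ i → pd (A := A) r j f = 0 → pd (A := A) r j h = 0 := by
  let ι := ZMod.castHom (dvd_refl p) C
  let s : ℕ → ZMod p := fun m => (-1) ^ m / ((m + 1).factorial : ZMod p)
  let T : ℕ → C := fun m => ι (s m) * crd (A := A) r i ^ (m + 1) * (pd (A := A) r i)^[m] f
  refine ⟨∑ m ∈ Finset.range (p - 1), T m, ?_, fun j hj hjf => ?_⟩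
  · let U : ℕ → C := fun m => ι (s m * ((m + 1 : ℕ) : ZMod p)) * crd (A := A) r i ^ m * (pd (A := A) r i)^[m] f
    have hι : ∀ z : ZMod p, pd (A := A) r i (ι z) = 0 := fun z => by
      rw [show z = ((z.val : ℕ) : ZMod p) from (ZMod.natCast_zmod_val z).symm, map_natCast]
      exact Derivation.map_natCast _ _
    have hT : ∀ m ∈ Finset.range (p - 1), pd (A := A) r i (T m) = U m - U (m + 1) := by
      intro m hm
      have hm' : m + 1 < p := by rw [Finset.mem_range] at hm; omega
      have hs : s (m + 1) * ((m + 1 + 1 : ℕ) : ZMod p) = - s m ∨ m + 2 = p := by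
        rcases eq_or_ne (m + 2) p with h | h
        · exact Or.inr h
        left
        have hne : ((m + 1 + 1 : ℕ) : ZMod p) ≠ 0 := by
          rw [Ne, ZMod.natCast_eq_zero_iff]
          exact fun hd => absurd (Nat.le_of_dvd (by omega) hd) (by omega)
        simp only [s]
        rw [Nat.factorial_succ (m + 1), Nat.cast_mul]
        field_simp
        ring
      have e1 : U (m + 1) = - (ι (s m) * crd (A := A) r i ^ (m + 1) * (pd (A := A) r i)^[m + 1] f) := by
        rcases hs with hs | hs
        · simp only [U]; rw [hs, map_neg]; ring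
        · rw [show m + 1 = p - 1 by omega] at *
          simp only [U, hf, mul_zero, neg_zero]
      rw [e1]
      simp only [T, U]
      rw [Derivation.leibniz, Derivation.leibniz, Derivation.leibniz_pow, pd_crd, if_pos rfl, hι,
        ← Function.iterate_succ_apply' (pd (A := A) (C := C) r i), map_mul, map_natCast]
      simp only [smul_eq_mul, nsmul_eq_mul, mul_zero, add_zero, mul_one, Nat.add_sub_cancel]
      ring
    rw [map_sum, Finset.sum_congr rfl hT, Finset.sum_range_sub']
    simp only [U, hf, mul_zero, sub_zero, s]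
    simp
  · have hι : ∀ z : ZMod p, pd (A := A) r j (ι z) = 0 := fun z => by
      rw [show z = ((z.val : ℕ) : ZMod p) from (ZMod.natCast_zmod_val z).symm, map_natCast]
      exact Derivation.map_natCast _ _
    rw [map_sum]
    refine Finset.sum_eq_zero fun m _ => ?_
    simp only [T]
    rw [Derivation.leibniz, Derivation.leibniz, Derivation.leibniz_pow, pd_crd, if_neg hj.symm, hι,
      iterate_comm, hjf, Function.iterate_fixed (map_zero (pd (A := A) (C := C) r i))]
    simp

/-- Closed forms, in coordinates. -/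
theorem chart_surj (ω : Ω[C⁄A])
    (hω : ∀ i j, pd (A := A) r i ((dBasis (A := A) (C := C) r).coord j ω) =
      pd (A := A) r j ((dBasis (A := A) (C := C) r).coord i ω)) :
    ∃ (g : Fin r → C) (h : C),
      ω = ∑ i, (g i ^ p * crd (A := A) r i ^ (p - 1)) • dBasis (A := A) (C := C) r i + D A C h := by
  classical
  let f : Fin r → C := fun i => (dBasis (A := A) (C := C) r).coord i ω
  let dz : ∀ i, Module.End A C := fun i => (pd (A := A) (C := C) r i).toLinearMap
  have hz : ∀ i n, (pd (A := A) (C := C) r i)^[n] 0 = 0 := fun i n =>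
    iterate_map_zero (dz i).toAddMonoidHom n
  have hc : ∀ i, ∃ a : C, (pd (A := A) r i)^[p - 1] (f i) = a ^ p := fun i =>
    eq_pow_of_pd_eq_zero p r _ fun j => by
      rw [iterate_comm, hω j i, ← Function.iterate_succ_apply, show (p - 1).succ = p from Nat.succ_pred_eq_of_pos hp.out.pos, iterate_pd_p p]
  choose a ha using hc
  let w : ZMod p := ((p - 1).factorial : ZMod p)⁻¹
  let m : C := ((w.val : ℕ) : C)
  have hm : m * ((p - 1).factorial : C) = 1 := by
    have hwne : ((p - 1).factorial : ZMod p) ≠ 0 := by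
      rw [Ne, ZMod.natCast_eq_zero_iff, Nat.Prime.dvd_factorial hp.out]
      have := hp.out.pos
      omega
    have e := congrArg (ZMod.castHom (dvd_refl p) C) (inv_mul_cancel₀ hwne)
    rw [map_mul, map_one, map_natCast, show ((p - 1).factorial : ZMod p)⁻¹ = ((w.val : ℕ) : ZMod p) from
      (ZMod.natCast_zmod_val w).symm, map_natCast] at e
    exact e
  let g : Fin r → C := fun i => m * a i
  have hg : ∀ i, g i ^ p = m * a i ^ p := fun i => by
    simp only [g, m, mul_pow, ← frobenius_def p ((w.val : ℕ) : C), map_natCast]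
  let f' : Fin r → C := fun i => f i - g i ^ p * crd (A := A) r i ^ (p - 1)
  have hsub : ∀ i j, j ≠ i → pd (A := A) r j (g i ^ p * crd (A := A) r i ^ (p - 1)) = 0 := fun i j hj => by
    rw [der_pow_p_mul, Derivation.leibniz_pow, pd_crd, if_neg hj.symm, smul_zero, smul_zero, mul_zero]
  have hiter_sub : ∀ i n (u v : C), (pd (A := A) r i)^[n] (u - v) =
      (pd (A := A) r i)^[n] u - (pd (A := A) r i)^[n] v := fun i n u v =>
    iterate_map_sub (dz i).toAddMonoidHom n u v
  have hsym : ∀ i j, pd (A := A) r i (f' j) = pd (A := A) r j (f' i) := fun i j => by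
    rcases eq_or_ne i j with rfl | hij
    · rfl
    simp only [f', map_sub, hsub j i hij, hsub i j hij.symm, sub_zero]
    exact hω i j
  have htop : ∀ i, (pd (A := A) r i)^[p - 1] (f' i) = 0 := fun i => by
    simp only [f']
    rw [hiter_sub, iterate_pd_pow r i _ (der_pow_p p _ _), Nat.sub_self, pow_zero, mul_one, Nat.descFactorial_self,
      ha, hg, mul_right_comm, hm, one_mul, sub_self]
  have hint : ∀ S : Finset (Fin r), ∃ h : C, ∀ i ∈ S, pd (A := A) r i h = f' i := by
    intro S
    induction S using Finset.induction_on with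
    | empty => exact ⟨0, by simp⟩
    | insert i S hiS ih =>
      obtain ⟨h, hh⟩ := ih
      obtain ⟨h', h1, h2⟩ := integrate p r i (f' i - pd (A := A) r i h) (by
        rw [hiter_sub, htop, ← Function.iterate_succ_apply, show (p - 1).succ = p from Nat.succ_pred_eq_of_pos hp.out.pos, iterate_pd_p p, sub_zero])
      refine ⟨h + h', fun j hj => ?_⟩
      rcases Finset.mem_insert.1 hj with rfl | hj'
      · rw [map_add, h1]; ring
      · have hne : j ≠ i := fun e => hiS (e ▸ hj')
        rw [map_add, h2 j hne (by rw [map_sub, hsym, ← hh j hj', pd_comm, sub_self]), add_zero, hh j hj']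
  obtain ⟨h, hh⟩ := hint Finset.univ
  refine ⟨g, h, ?_⟩
  rw [D_eq_sum r h, ← Finset.sum_add_distrib]
  conv_lhs => rw [← (dBasis (A := A) (C := C) r).sum_repr ω]
  refine Finset.sum_congr rfl fun i _ => ?_
  rw [← add_smul, hh i (Finset.mem_univ i)]
  congr 1
  show f i = _
  simp only [f']
  ring

end GrothLib.CartierOne16
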