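import Groth.Agent.Lib.CartierOne16.Chart
import Groth.Agent.Lib.DeRhamFam.Basic
import Groth.Prelude.Def_DeRham
import Mathlib.RingTheory.Etale.Kaehler
import Mathlib.RingTheory.RingHom.StandardSmooth
import Mathlib.LinearAlgebra.Alternating.Basic

/-!
# The inverse Cartier isomorphism in degree one
-/

universe u

set_option linter.all false

noncomputable section

namespace GrothLib.CartierOne16

open KaehlerDifferential

/-- A `B`-module with the action twisted by Frobenius. -/
@[nolint unusedArguments]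
def Fr (p : ℕ) (B M : Type u) : Type u := M

section
variable (p : ℕ) [hp : Fact p.Prime] {A B : Type u} [CommRing A] [CharP A p] [CommRing B] [CharP B p] [Algebra A B]
variable {M : Type u} [AddCommGroup M]

instance : AddCommGroup (Fr p B M) := inferInstanceAs (AddCommGroup M)

/-- The identity map to the twist. -/
def toFr : M ≃+ Fr p B M := AddEquiv.refl M

instance [Module B M] : Module B (Fr p B M) := Module.compHom M (frobenius B p)

instance [Module B M] : Module A (Fr p B M) := Module.compHom M ((frobenius B p).comp (algebraMap A B))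

instance [Module B M] : IsScalarTower A B (Fr p B M) := IsScalarTower.of_algebraMap_smul fun _ _ => rfl

theorem smul_toFr [Module B M] (b : B) (x : M) : b • toFr p (B := B) x = toFr p (b ^ p • x) := rfl

variable (A B)

/-- Exact forms, in the twist. -/
def exact : Submodule B (Fr p B (Ω[B⁄A])) where
  carrier := {x | ∃ h, x = toFr p (D A B h)}
  add_mem' := by
    rintro _ _ ⟨a, rfl⟩ ⟨b, rfl⟩
    exact ⟨a + b, by rw [map_add (D A B), map_add]⟩
  zero_mem' := ⟨0, by simp⟩
  smul_mem' := by
    rintro c _ ⟨a, rfl⟩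
    exact ⟨c ^ p * a, by rw [smul_toFr, Derivation.leibniz, der_pow_p p (D A B), smul_zero, add_zero]⟩

/-- The class of a form modulo exact forms. -/
def cls : Ω[B⁄A] →+ Fr p B (Ω[B⁄A]) ⧸ exact p A B :=
  (exact p A B).mkQ.toAddMonoidHom.comp (toFr p).toAddMonoidHom

theorem cls_smul (c : B) (x : Ω[B⁄A]) : cls p A B (c ^ p • x) = c • cls p A B x := rfl

theorem cls_eq_zero {x : Ω[B⁄A]} : cls p A B x = 0 ↔ ∃ h, x = D A B h := by
  change (exact p A B).mkQ (toFr p x) = 0 ↔ _
  rw [Submodule.mkQ_apply, Submodule.Quotient.mk_eq_zero]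
  exact ⟨fun ⟨h, e⟩ => ⟨h, (toFr p (B := B)).injective e⟩, fun ⟨h, e⟩ => ⟨h, by rw [e]⟩⟩

omit [CharP A p] [CharP B p] in
theorem D_aeval {σ : Type} [Fintype σ] (v : σ → B) (q : MvPolynomial σ ℤ) :
    D A B (MvPolynomial.aeval v q) = ∑ i, MvPolynomial.aeval v (MvPolynomial.pderiv i q) • D A B (v i) := by
  classical
  induction q using MvPolynomial.induction_on with
  | C z => simp [Derivation.map_intCast]
  | add q₁ q₂ h₁ h₂ => simp only [map_add, h₁, h₂, add_smul, Finset.sum_add_distrib]
  | mul_X q i h =>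
    simp only [map_mul, MvPolynomial.aeval_X, Derivation.leibniz, h, MvPolynomial.pderiv_X, map_add, smul_eq_mul,
      MvPolynomial.aeval_X, add_smul, Finset.sum_add_distrib, Finset.smul_sum, smul_smul]
    congr 1
    rw [Finset.sum_eq_single i (fun j _ hj => by simp [Pi.single_eq_of_ne' hj]) (by simp)]
    simp

omit [CharP A p] in
theorem add_rule (f g : B) : ∃ h : B,
    (f + g) ^ (p - 1) • D A B (f + g) = f ^ (p - 1) • D A B f + g ^ (p - 1) • D A B g + D A B h := by
  let R := MvPolynomial (Fin 2) ℤ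
  let X₀ : R := MvPolynomial.X 0
  let X₁ : R := MvPolynomial.X 1
  obtain ⟨r, hr⟩ := exists_add_pow_prime_eq hp.out X₀ X₁
  let P : R := X₀ * X₁ * r
  have hr' : (X₀ + X₁) ^ p = X₀ ^ p + X₁ ^ p + (p : R) * P := by rw [hr]; simp only [P]; ring
  have hpR : (p : R) ≠ 0 := Nat.cast_ne_zero.2 hp.out.ne_zero
  have e0 : MvPolynomial.pderiv 0 P = (X₀ + X₁) ^ (p - 1) - X₀ ^ (p - 1) := by
    have h := congrArg (MvPolynomial.pderiv 0) hr'
    simp only [map_add, Derivation.leibniz, Derivation.leibniz_pow, Derivation.map_natCast, X₀, X₁,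
      MvPolynomial.pderiv_X, Pi.single_eq_same, Pi.single_eq_of_ne (show (1 : Fin 2) ≠ 0 by decide),
      Pi.single_eq_of_ne (show (0 : Fin 2) ≠ 1 by decide), smul_zero, add_zero, smul_eq_mul, nsmul_eq_mul,
      mul_one, mul_zero] at h
    apply mul_left_cancel₀ hpR
    linear_combination -h
  have e1 : MvPolynomial.pderiv 1 P = (X₀ + X₁) ^ (p - 1) - X₁ ^ (p - 1) := by
    have h := congrArg (MvPolynomial.pderiv 1) hr'
    simp only [map_add, Derivation.leibniz, Derivation.leibniz_pow, Derivation.map_natCast, X₀, X₁,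
      MvPolynomial.pderiv_X, Pi.single_eq_same, Pi.single_eq_of_ne (show (1 : Fin 2) ≠ 0 by decide),
      Pi.single_eq_of_ne (show (0 : Fin 2) ≠ 1 by decide), smul_zero, add_zero, zero_add, smul_eq_mul, nsmul_eq_mul,
      mul_one, mul_zero] at h
    apply mul_left_cancel₀ hpR
    linear_combination -h
  refine ⟨MvPolynomial.aeval ![f, g] P, ?_⟩
  rw [D_aeval A B, Fin.sum_univ_two, e0, e1]
  simp only [X₀, X₁, map_sub, map_pow, map_add, MvPolynomial.aeval_X, Matrix.cons_val_zero, Matrix.cons_val_one]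
  module

/-- `f ↦ f ^ (p-1) df` modulo exact forms. -/
def cartDer : Derivation A B (Fr p B (Ω[B⁄A]) ⧸ exact p A B) where
  toFun f := cls p A B (f ^ (p - 1) • D A B f)
  map_add' f g := by
    obtain ⟨h, hh⟩ := add_rule p A B f g
    show cls p A B _ = cls p A B _ + cls p A B _
    rw [hh, map_add, map_add, (cls_eq_zero p A B).2 ⟨h, rfl⟩, add_zero]
  map_smul' a f := by
    show cls p A B ((a • f) ^ (p - 1) • D A B (a • f)) = a • cls p A B (f ^ (p - 1) • D A B f)
    rw [← algebraMap_smul B a (cls p A B (f ^ (p - 1) • D A B f)), ← cls_smul, Derivation.map_smul, smul_pow,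
      ← algebraMap_smul B a (D A B f), Algebra.smul_def, ← map_pow, smul_smul, smul_smul]
    congr 2
    calc algebraMap A B (a ^ (p - 1)) * f ^ (p - 1) * algebraMap A B a
        = algebraMap A B (a ^ (p - 1) * a) * f ^ (p - 1) := by rw [map_mul]; ring
      _ = _ := by rw [← pow_succ, Nat.sub_add_cancel hp.out.pos]
  map_one_eq_zero' := by
    show cls p A B _ = 0
    rw [Derivation.map_one_eq_zero]
    exact (congrArg _ (smul_zero _)).trans (map_zero _)
  leibniz' f g := by
    show cls p A B ((f * g) ^ (p - 1) • D A B (f * g)) =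
      f • cls p A B (g ^ (p - 1) • D A B g) + g • cls p A B (f ^ (p - 1) • D A B f)
    rw [← cls_smul, ← cls_smul, ← map_add, Derivation.leibniz, smul_add, smul_smul, smul_smul, smul_smul, smul_smul]
    have e : ∀ z : B, z ^ (p - 1) * z = z ^ p := fun z => by rw [← pow_succ, Nat.sub_add_cancel hp.out.pos]
    rw [mul_pow, ← e f, ← e g, show f ^ (p - 1) * g ^ (p - 1) * f = f ^ (p - 1) * f * g ^ (p - 1) by ring,
      show f ^ (p - 1) * g ^ (p - 1) * g = g ^ (p - 1) * g * f ^ (p - 1) by ring]

/-- The inverse Cartier map. -/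
def gam : Ω[B⁄A] →ₗ[B] Fr p B (Ω[B⁄A]) ⧸ exact p A B := (cartDer p A B).liftKaehlerDifferential

theorem gam_D (f : B) : gam p A B (D A B f) = cls p A B (f ^ (p - 1) • D A B f) :=
  Derivation.liftKaehlerDifferential_comp_D _ f

end

section closed

variable (p : ℕ) [hp : Fact p.Prime] {A B : Type u} [CommRing A] [CharP A p] [CommRing B] [CharP B p] [Algebra A B]
variable {d : ∀ q : ℕ, ↥(⋀[B]^q (Ω[B⁄A])) →ₗ[A] ↥(⋀[B]^(q + 1) (Ω[B⁄A]))} (hd : DeRham.IsDiff (D A B) d)

/-- A one-form as an element of the first exterior power. -/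
def frm : Ω[B⁄A] ≃ₗ[B] ↥(⋀[B]^1 (Ω[B⁄A])) := (exteriorPower.oneEquiv B (Ω[B⁄A])).symm

omit [CharP A p] [CharP B p] hp in
theorem frm_smul_D (a b : B) :
    (a • exteriorPower.ιMulti B 1 fun _ : Fin 1 => D A B b) = frm (a • D A B b) := by
  rw [frm, eq_comm, LinearEquiv.symm_apply_eq, map_smul, exteriorPower.oneEquiv_ιMulti]

/-- Closed one-forms. -/
def IsClosedForm (d : ∀ q : ℕ, ↥(⋀[B]^q (Ω[B⁄A])) →ₗ[A] ↥(⋀[B]^(q + 1) (Ω[B⁄A]))) (ω : Ω[B⁄A]) : Prop :=
  d 1 (frm ω) = 0

include hd in
omit [CharP A p] [CharP B p] hp in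
theorem d_zero_eq (f : B) : d 0 ((exteriorPower.zeroEquiv B (Ω[B⁄A])).symm f) = frm (D A B f) := by
  have e : (exteriorPower.zeroEquiv B (Ω[B⁄A])).symm f = DeRham.gen (D A B) 0 f Fin.elim0 := by
    rw [LinearEquiv.symm_apply_eq, DeRham.gen, map_smul, exteriorPower.zeroEquiv_ιMulti, smul_eq_mul, mul_one]
  rw [e, hd.1 0 f Fin.elim0]
  rw [← one_smul B (exteriorPower.ιMulti B 1 _), ← one_smul B (D A B f), ← frm_smul_D]
  congr 2
  funext i
  refine Fin.cases ?_ (fun j => j.elim0) i
  simp

include hd in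
omit [CharP A p] [CharP B p] hp in
theorem mem_coboundaries_iff (ω : Ω[B⁄A]) : frm ω ∈ DeRham.coboundaries d 1 ↔ ∃ h, ω = D A B h := by
  show frm ω ∈ LinearMap.range (d 0) ↔ _
  constructor
  · rintro ⟨z, hz⟩
    obtain ⟨h, rfl⟩ := (exteriorPower.zeroEquiv B (Ω[B⁄A])).symm.surjective z
    rw [d_zero_eq hd] at hz
    exact ⟨h, (frm.injective hz).symm⟩
  · rintro ⟨h, rfl⟩
    exact ⟨_, d_zero_eq hd h⟩

include hd in
omit [CharP A p] [CharP B p] hp in
theorem d_frm (a b : B) : d 1 (frm (a • D A B b)) = exteriorPower.ιMulti B 2 ![D A B a, D A B b] := by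
  rw [← frm_smul_D]
  refine (hd.1 1 a fun _ => b).trans ?_
  congr 1
  funext i
  fin_cases i <;> simp

include hd in
theorem isClosedForm_smul (c : B) {ω : Ω[B⁄A]} (hω : IsClosedForm d ω) : IsClosedForm d (c ^ p • ω) := by
  have key : ∀ x : Ω[B⁄A], d 1 (frm (c ^ p • x)) = c ^ p • d 1 (frm x) := fun x => by
    have hx : x ∈ Submodule.span B (Set.range (D A B)) := by
      rw [KaehlerDifferential.span_range_derivation]; trivial
    suffices ∀ a : B, d 1 (frm (c ^ p • a • x)) = c ^ p • d 1 (frm (a • x)) by simpa using this 1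
    induction hx using Submodule.span_induction with
    | mem y hy =>
      obtain ⟨b, rfl⟩ := hy
      intro a
      rw [smul_smul, d_frm hd, d_frm hd, Derivation.leibniz, der_pow_p p (D A B), smul_zero, add_zero]
      have := (exteriorPower.ιMulti B 2).map_update_smul ![D A B a, D A B b] 0 (c ^ p) (D A B a)
      rw [show Function.update ![D A B a, D A B b] 0 (c ^ p • D A B a) = ![c ^ p • D A B a, D A B b] by
          funext i; fin_cases i <;> simp,
        show Function.update ![D A B a, D A B b] 0 (D A B a) = ![D A B a, D A B b] by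
          funext i; fin_cases i <;> simp] at this
      exact this
    | zero => intro a; simp
    | add y z _ _ hy hz => intro a; simp only [smul_add, map_add, hy a, hz a]
    | smul r y _ hy => intro a; simp only [smul_smul a r]; exact hy _
  rw [IsClosedForm, key, show d 1 (frm ω) = 0 from hω, smul_zero]

include hd in
theorem isClosedForm_gen (f : B) : IsClosedForm d (f ^ (p - 1) • D A B f) := by
  rw [IsClosedForm, d_frm hd, Derivation.leibniz_pow, ← Nat.cast_smul_eq_nsmul B, smul_smul]
  have h := (exteriorPower.ιMulti B 2).map_update_smul ![D A B f, D A B f] 0 (((p - 1 : ℕ) : B) * f ^ (p - 1 - 1)) (D A B f)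
  rw [show Function.update ![D A B f, D A B f] 0 ((((p - 1 : ℕ) : B) * f ^ (p - 1 - 1)) • D A B f) =
      ![(((p - 1 : ℕ) : B) * f ^ (p - 1 - 1)) • D A B f, D A B f] by
        funext i; fin_cases i <;> simp] at h
  rw [h, (exteriorPower.ιMulti B 2).map_eq_zero_of_eq _ (i := (0 : Fin 2)) (j := 1) (by simp) (by decide), smul_zero]

include hd in
omit [CharP A p] [CharP B p] hp in
theorem isClosedForm_exact (h : B) : IsClosedForm d (D A B h) := by
  rw [IsClosedForm, ← d_zero_eq hd]
  exact LinearMap.congr_fun (hd.2 0) _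

/-- Closed forms pair symmetrically with commuting derivations. -/
theorem symm_of_closed {C : Type u} [CommRing C] [Algebra A C] [Algebra B C] [IsScalarTower A B C]
    (hd : DeRham.IsDiff (D A B) d) (δ ε : Derivation A C C) (hcomm : ∀ c, δ (ε c) = ε (δ c)) {ω : Ω[B⁄A]}
    (hω : IsClosedForm d ω) :
    δ ((ε.compAlgebraMap B).liftKaehlerDifferential ω) = ε ((δ.compAlgebraMap B).liftKaehlerDifferential ω) := by
  let φ : Ω[B⁄A] →ₗ[B] C := (δ.compAlgebraMap B).liftKaehlerDifferential
  let ψ : Ω[B⁄A] →ₗ[B] C := (ε.compAlgebraMap B).liftKaehlerDifferential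
  let m : MultilinearMap B (fun _ : Fin 2 => Ω[B⁄A]) C :=
    (MultilinearMap.mkPiAlgebra B (Fin 2) C).compLinearMap ![φ, ψ]
  let α : (Ω[B⁄A]) [⋀^Fin 2]→ₗ[B] C := MultilinearMap.alternatization m
  have hα : ∀ v w : Ω[B⁄A], α ![v, w] = φ v * ψ w - φ w * ψ v := fun v w => by
    simp only [α, MultilinearMap.alternatization_apply]
    rw [show (Finset.univ : Finset (Equiv.Perm (Fin 2))) = {1, Equiv.swap 0 1} by decide,
      Finset.sum_pair (by decide)]
    simp [m, Equiv.Perm.sign_swap (show (0 : Fin 2) ≠ 1 by decide), Fin.prod_univ_two]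
    ring
  let pair : ↥(⋀[B]^2 (Ω[B⁄A])) →ₗ[B] C := exteriorPower.alternatingMapLinearEquiv α
  have key : ∀ x : Ω[B⁄A], δ (ψ x) - ε (φ x) = pair (d 1 (frm x)) := fun x => by
    have hx : x ∈ Submodule.span B (Set.range (D A B)) := by
      rw [KaehlerDifferential.span_range_derivation]; trivial
    suffices ∀ a : B, δ (ψ (a • x)) - ε (φ (a • x)) = pair (d 1 (frm (a • x))) by simpa using this 1
    induction hx using Submodule.span_induction with
    | mem y hy =>
      obtain ⟨b, rfl⟩ := hy
      intro a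
      rw [d_frm hd, show pair (exteriorPower.ιMulti B 2 ![D A B a, D A B b]) = α ![D A B a, D A B b] from
        exteriorPower.alternatingMapLinearEquiv_apply_ιMulti _ _, hα]
      simp only [φ, ψ, map_smul, Derivation.liftKaehlerDifferential_comp_D, Algebra.smul_def, Derivation.leibniz,
        Derivation.compAlgebraMap_apply, map_mul, hcomm]
      simp only [smul_eq_mul, Algebra.algebraMap_self, RingHom.id_apply]
      ring
    | zero => intro a; simp
    | add y z _ _ hy hz => intro a; simp only [smul_add, map_add, ← hy a, ← hz a]; ring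
    | smul r y _ hy => intro a; simp only [smul_smul a r]; exact hy _
  have := key ω
  rw [show d 1 (frm ω) = 0 from hω, map_zero, sub_eq_zero] at this
  exact this

include hd in
/-- Every value has a closed representative, compatibly with maps of algebras. -/
theorem exists_rep {C : Type u} [CommRing C] [CharP C p] [Algebra A C] [Algebra B C] [IsScalarTower A B C]
    (η : Ω[B⁄A]) : ∃ ω, cls p A B ω = gam p A B η ∧ IsClosedForm d ω ∧
      cls p A C (map A A B C ω) = gam p A C (map A A B C η) := by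
  have hη : η ∈ Submodule.span B (Set.range (D A B)) := by
    rw [KaehlerDifferential.span_range_derivation]; trivial
  induction hη using Submodule.span_induction with
  | mem y hy =>
    obtain ⟨b, rfl⟩ := hy
    exact ⟨b ^ (p - 1) • D A B b, (gam_D p A B b).symm, isClosedForm_gen p hd b, by
      rw [map_smul, map_D, ← algebraMap_smul C (b ^ (p - 1)), map_pow, gam_D]⟩
  | zero => exact ⟨0, by simp [IsClosedForm], by simp [IsClosedForm], by simp⟩
  | add y z _ _ hy hz =>
    obtain ⟨a, ha1, ha2, ha3⟩ := hy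
    obtain ⟨b, hb1, hb2, hb3⟩ := hz
    refine ⟨a + b, by rw [map_add, map_add, ha1, hb1], ?_, by rw [map_add, map_add, map_add, map_add, ha3, hb3]⟩
    rw [IsClosedForm, map_add, map_add, show d 1 (frm a) = 0 from ha2, show d 1 (frm b) = 0 from hb2, add_zero]
  | smul r y _ hy =>
    obtain ⟨a, ha1, ha2, ha3⟩ := hy
    refine ⟨r ^ p • a, by rw [cls_smul, map_smul, ha1], isClosedForm_smul p hd r ha2, ?_⟩
    rw [LinearMap.map_smul (map A A B C), LinearMap.map_smul (map A A B C), ← algebraMap_smul C (r ^ p), map_pow,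
      cls_smul, ← algebraMap_smul C r (map A A B C y), LinearMap.map_smul (gam p A C), ha3]

include hd in
theorem map_rep {C : Type u} [CommRing C] [CharP C p] [Algebra A C] [Algebra B C] [IsScalarTower A B C]
    {η ω : Ω[B⁄A]} (h : cls p A B ω = gam p A B η) :
    cls p A C (map A A B C ω) = gam p A C (map A A B C η) := by
  obtain ⟨ω₀, h₀, -, h₁⟩ := exists_rep p hd (C := C) η
  obtain ⟨z, hz⟩ := (cls_eq_zero p A B (x := ω - ω₀)).1 (by rw [map_sub, h, h₀, sub_self])
  rw [← h₁, ← sub_eq_zero, ← map_sub, ← map_sub, hz, map_D]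
  exact (cls_eq_zero p A C).2 ⟨_, rfl⟩

include hd in
/-- The inverse Cartier map is injective and hits every closed form, locally at a standard smooth chart. -/
theorem local_data [PerfectRing A p] (g : B) (hg : Algebra.IsStandardSmooth A (Localization.Away g))
    (hn : ¬ IsNilpotent g) :
    (∀ η : Ω[B⁄A], gam p A B η = 0 → ∃ N : ℕ, g ^ N • η = 0) ∧
      ∀ ω : Ω[B⁄A], IsClosedForm d ω → ∃ (N : ℕ) (η : Ω[B⁄A]), gam p A B η = g ^ N • cls p A B ω := by
  classical
  let C := Localization.Away g
  haveI : Nontrivial C := by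
    rw [← not_subsingleton_iff_nontrivial, IsLocalization.subsingleton_iff (S := C) (M := Submonoid.powers g)]
    rintro ⟨n, hn'⟩
    exact hn ⟨n, hn'⟩
  haveI : CharP C p := (CharP.charP_iff_prime_eq_zero hp.out).2 (by
    rw [← map_natCast (algebraMap B C), CharP.cast_eq_zero B p, map_zero])
  obtain ⟨_, _, _, _, ⟨Pr⟩⟩ := hg.out
  haveI : Algebra.IsStandardSmoothOfRelativeDimension Pr.dimension A C := ⟨_, _, _, ‹_›, Pr, rfl⟩
  obtain ⟨gh, hgh⟩ := Algebra.IsStandardSmoothOfRelativeDimension.exists_etale_mvPolynomial Pr.dimension A C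
  let r := Pr.dimension
  letI : Algebra (MvPolynomial (Fin r) A) C := gh.toRingHom.toAlgebra
  haveI : IsScalarTower A (MvPolynomial (Fin r) A) C :=
    IsScalarTower.of_algebraMap_eq fun a => (gh.commutes a).symm
  haveI : Algebra.Etale (MvPolynomial (Fin r) A) C := hgh
  let bas := dBasis (A := A) (C := C) r
  let x := crd (A := A) (C := C) r
  let m := map A A B C
  have hgam : ∀ θ : Fin r → C, gam p A C (∑ i, θ i • bas i) =
      cls p A C (∑ i, (θ i ^ p * x i ^ (p - 1)) • bas i) := fun θ => by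
    rw [map_sum, map_sum]
    refine Finset.sum_congr rfl fun i _ => ?_
    simp only [bas, x]
    rw [map_smul, dBasis_apply, gam_D, ← cls_smul, smul_smul]
  refine ⟨fun η hη => ?_, fun ω hω => ?_⟩
  · have h0 : gam p A C (m η) = 0 := by
      rw [← map_rep p hd (C := C) (η := η) (ω := 0) (by rw [map_zero, hη]), map_zero, map_zero]
    rw [← bas.sum_repr (m η), hgam] at h0
    obtain ⟨h, hh⟩ := (cls_eq_zero p A C).1 h0
    have hz := chart_inj p r _ h hh
    have hm0 : m η = 0 := by
      rw [← bas.sum_repr (m η)]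
      exact Finset.sum_eq_zero fun i _ => by rw [congrFun hz i]; exact zero_smul _ _
    obtain ⟨⟨_, N, rfl⟩, hN⟩ := (IsLocalizedModule.eq_zero_iff (Submonoid.powers g) m).1 hm0
    exact ⟨N, hN⟩
  · have hsym : ∀ i j, pd (A := A) r i (bas.coord j (m ω)) = pd (A := A) r j (bas.coord i (m ω)) := by
      intro i j
      have hc : ∀ i x, bas.coord i (m x) =
          ((pd (A := A) (C := C) r i).compAlgebraMap B).liftKaehlerDifferential x := fun i x => by
        refine LinearMap.congr_fun (g := ((pd (A := A) (C := C) r i).compAlgebraMap B).liftKaehlerDifferential)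
          (f := (bas.coord i).restrictScalars B ∘ₗ m) (LinearMap.ext_on (KaehlerDifferential.span_range_derivation A B) ?_) x
        rintro _ ⟨b, rfl⟩
        simp only [LinearMap.comp_apply, LinearMap.restrictScalars_apply, m, map_D,
          Derivation.liftKaehlerDifferential_comp_D, Derivation.compAlgebraMap_apply]
        rfl
      rw [hc, hc]
      exact symm_of_closed hd _ _ (fun c => pd_comm r i j c) hω
    obtain ⟨θ, h, hh⟩ := chart_surj p r (m ω) hsym
    have hC : gam p A C (∑ i, θ i • bas i) = cls p A C (m ω) := by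
      rw [hgam, hh, map_add, (cls_eq_zero p A C).2 ⟨h, rfl⟩, add_zero]
    obtain ⟨⟨η, ⟨_, n, rfl⟩⟩, hη⟩ := IsLocalizedModule.surj (Submonoid.powers g) m (∑ i, θ i • bas i)
    obtain ⟨ω₁, hω₁, -, hω₁'⟩ := exists_rep p hd (C := C) η
    have hdiff : cls p A C (m (g ^ (p * n) • ω - ω₁)) = 0 := by
      rw [map_sub, map_sub, sub_eq_zero, hω₁', map_smul]
      change cls p A C (g ^ (p * n) • m ω) = gam p A C (m η)
      rw [← hη, Submonoid.smul_def, ← algebraMap_smul C (g ^ n), ← algebraMap_smul C (g ^ (p * n)),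
        LinearMap.map_smul (gam p A C), hC,
        mul_comm p n, pow_mul, map_pow (algebraMap B C) (g ^ n), cls_smul]
    obtain ⟨h₁, hh₁⟩ := (cls_eq_zero p A C).1 hdiff
    obtain ⟨⟨h', ⟨_, k, rfl⟩⟩, hk⟩ := IsLocalization.surj (Submonoid.powers g) h₁
    have hk' : h₁ * algebraMap B C (g ^ k) = algebraMap B C h' := hk
    let u : B := g ^ ((p - 1) * k)
    have hu : u * g ^ k = g ^ (p * k) := by
      rw [← pow_add]; congr 1
      conv_rhs => rw [show p = p - 1 + 1 from (Nat.sub_add_cancel hp.out.pos).symm, add_mul, one_mul]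
    have hz : m (g ^ (p * k) • (g ^ (p * n) • ω - ω₁) - D A B (u * h')) = 0 := by
      rw [map_sub, map_smul, hh₁, sub_eq_zero, ← algebraMap_smul C (g ^ (p * k))]
      show _ = map A A B C (D A B (u * h'))
      rw [map_D, map_mul, ← hk', mul_left_comm, ← map_mul, hu, mul_comm p k, pow_mul, map_pow, Derivation.leibniz,
        der_pow_p p (D A C), smul_zero, zero_add]
    obtain ⟨⟨_, N, rfl⟩, hN⟩ := (IsLocalizedModule.eq_zero_iff (Submonoid.powers g) m).1 hz
    refine ⟨N + k + n, g ^ (N + k) • η, ?_⟩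
    have hN' : (g ^ N) ^ p • (g ^ (p * k) • (g ^ (p * n) • ω - ω₁) - D A B (u * h')) = 0 := by
      have e : g ^ N • (g ^ (p * k) • (g ^ (p * n) • ω - ω₁) - D A B (u * h')) = 0 := hN
      rw [show p = p - 1 + 1 from (Nat.sub_add_cancel hp.out.pos).symm, pow_succ, mul_smul,
        Nat.sub_add_cancel hp.out.pos, e, smul_zero]
    have h2 := congrArg (cls p A B) hN'
    rw [cls_smul, map_sub, mul_comm p k, pow_mul, cls_smul, map_sub, mul_comm p n, pow_mul, cls_smul,
      (cls_eq_zero p A B).2 ⟨u * h', rfl⟩, sub_zero, map_zero, hω₁, smul_sub, smul_sub, sub_eq_zero,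
      smul_smul, smul_smul, smul_smul, ← pow_add, ← pow_add] at h2
    rw [map_smul, h2]

end closed

end GrothLib.CartierOne16
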